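import Cfsg.Agent.Fusion.ExtraspecialIndex
import Cfsg.Agent.Fusion.EssentialShape

/-!
An invariant flag of length three in the Frattini quotient leaves a unique Sylow subgroup in a group
of automorphisms.
-/

set_option autoImplicit false
set_option linter.style.haveILetI false

namespace Cfsg.Lib.Fusion.Quartic

open Subgroup Cfsg.Lib.Fusion

universe u

variable {p : ℕ} [hp : Fact p.Prime] {Q : Type u} [Group Q] [Finite Q]

theorem subsingleton_sylow_of_flag (hQ : IsPGroup p Q) (M₁ M₂ : Subgroup Q)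
    (h01 : frattini Q ≤ M₁) (h12 : M₁ ≤ M₂) (hc0 : Nat.card M₁ = p * Nat.card (frattini Q))
    (hc1 : Nat.card M₂ = p * Nat.card M₁) (hc2 : Nat.card Q = p * Nat.card M₂)
    (A : Subgroup (MulAut Q)) (i1 : ∀ a ∈ A, ∀ q ∈ M₁, a q ∈ M₁) (i2 : ∀ a ∈ A, ∀ q ∈ M₂, a q ∈ M₂) :
    Subsingleton (Sylow p A) := by
  haveI : Finite (MulAut Q) :=
    Finite.of_injective (fun f : MulAut Q => (f : Q → Q)) DFunLike.coe_injective
  set Φ := frattini Q with hΦ
  have hΦc : ∀ (a : MulAut Q), ∀ q ∈ Φ, a q ∈ Φ := fun a q hq => by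
    have hc : (frattini Q).Characteristic := inferInstance
    rw [characteristic_iff_map_le] at hc
    exact hc a ⟨q, hq, rfl⟩
  let K : Subgroup A :=
    { carrier := {a | (∀ q, (a : MulAut Q) q * q⁻¹ ∈ M₂) ∧ (∀ m ∈ M₂, (a : MulAut Q) m * m⁻¹ ∈ M₁) ∧
        ∀ m ∈ M₁, (a : MulAut Q) m * m⁻¹ ∈ Φ}
      one_mem' := ⟨fun q => by simp, fun m _ => by simp, fun m _ => by simp⟩
      mul_mem' := by
        rintro a b ⟨ha2, ha1, ha0⟩ ⟨hb2, hb1, hb0⟩
        refine ⟨fun q => ?_, fun m hm => ?_, fun m hm => ?_⟩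
        · simpa [MulAut.mul_apply, mul_assoc] using M₂.mul_mem (ha2 ((b : MulAut Q) q)) (hb2 q)
        · simpa [MulAut.mul_apply, mul_assoc] using
            M₁.mul_mem (ha1 ((b : MulAut Q) m) (i2 _ b.2 m hm)) (hb1 m hm)
        · simpa [MulAut.mul_apply, mul_assoc] using
            Φ.mul_mem (ha0 ((b : MulAut Q) m) (i1 _ b.2 m hm)) (hb0 m hm)
      inv_mem' := by
        rintro a ⟨ha2, ha1, ha0⟩
        refine ⟨fun q => ?_, fun m hm => ?_, fun m hm => ?_⟩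
        · simpa using M₂.inv_mem (ha2 ((a : MulAut Q)⁻¹ q))
        · simpa using M₁.inv_mem (ha1 ((a : MulAut Q)⁻¹ m) (i2 _ (A.inv_mem a.2) m hm))
        · simpa using Φ.inv_mem (ha0 ((a : MulAut Q)⁻¹ m) (i1 _ (A.inv_mem a.2) m hm)) }
  refine subsingleton_sylow_of_le K ?_ ?_
  · rintro ⟨a, ha2, ha1, ha0⟩
    set b : MulAut Q := (a : MulAut Q)
    let ψ := RankTwo.quotHom A Φ (fun α _ => hΦc α)
    have hψ : ∀ (c : A) (x : Q), ψ c (x : Q ⧸ Φ) = (((c : MulAut Q) x : Q) : Q ⧸ Φ) := fun c x => rfl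
    have hexp : ∀ y : Q ⧸ Φ, y ^ p = 1 := fun y =>
      Cfsg.Lib.PGroups.pow_prime_quotient_frattini hQ y
    have hf : ψ a ^ (p * p) = 1 := by
      refine ExtraspecialIndex.chain_pow (M := M₂.map (QuotientGroup.mk' Φ))
        (N := M₁.map (QuotientGroup.mk' Φ)) (fun y _ => hexp y) (fun y _ => hexp y) ?_ ?_ ?_
      · rintro _ ⟨m, hm, rfl⟩
        show ψ a (m : Q ⧸ Φ) = (m : Q ⧸ Φ)
        rw [hψ, ← mul_inv_eq_one, ← QuotientGroup.mk_inv, ← QuotientGroup.mk_mul,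
          QuotientGroup.eq_one_iff]
        exact ha0 m hm
      · rintro _ ⟨m, hm, rfl⟩
        exact ⟨_, ha1 m hm, rfl⟩
      · intro y
        obtain ⟨m, rfl⟩ := QuotientGroup.mk_surjective y
        exact ⟨_, ha2 m, rfl⟩
    have hbp : ∀ q, (b ^ (p * p)) q * q⁻¹ ∈ Φ := fun q => by
      have h := congrArg (fun f : MulAut (Q ⧸ Φ) => f (q : Q ⧸ Φ)) hf
      rw [← map_pow] at h
      change (((b ^ (p * p)) q : Q) : Q ⧸ Φ) = (q : Q ⧸ Φ) at h
      rw [← QuotientGroup.eq_one_iff, QuotientGroup.mk_mul, h, QuotientGroup.mk_inv, mul_inv_cancel]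
    obtain ⟨n, hn⟩ := IsPGroup.iff_card.mp hQ
    obtain ⟨r, -, hr'⟩ := (Nat.dvd_prime_pow hp.out).mp (hn ▸ Φ.index_dvd_card)
    let St : Subgroup (MulAut Q) :=
      { carrier := {c | ∀ x, c x * x⁻¹ ∈ Φ}
        one_mem' := fun x => by simp
        mul_mem' := fun {c d} hc hd x => by
          simpa [MulAut.mul_apply, mul_assoc] using Φ.mul_mem (hc (d x)) (hd x)
        inv_mem' := fun {c} hc x => by simpa using Φ.inv_mem (hc (c⁻¹ x)) }
    have hdvd := Cfsg.Lib.PGroups.card_stabilizing_dvd hn hr' (zpowers (b ^ (p * p))) fun c hc x =>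
      (zpowers_le.mpr (show b ^ (p * p) ∈ St from hbp)) hc x
    rw [Nat.card_zpowers] at hdvd
    refine ⟨2 + r * (n - r), Subtype.ext (Subtype.ext ?_)⟩
    show b ^ p ^ (2 + r * (n - r)) = 1
    rw [pow_add, pow_mul, pow_two]
    exact orderOf_dvd_iff_pow_eq_one.1 hdvd
  · rintro a ⟨k, hk⟩
    have hk' : ∃ k, (a : MulAut Q) ^ p ^ k = 1 := ⟨k, congrArg Subtype.val hk⟩
    refine ⟨fun q => RankTwo.disp_mem_step hQ _ hk' (M := ⊤) le_top
        (by rw [Subgroup.card_top]; exact hc2) (fun _ _ => mem_top _) (i2 _ a.2) q (mem_top q),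
      RankTwo.disp_mem_step hQ _ hk' h12 hc1 (i2 _ a.2) (i1 _ a.2),
      RankTwo.disp_mem_step hQ _ hk' h01 hc0 (i1 _ a.2) fun q hq => hΦc _ q hq⟩

end Cfsg.Lib.Fusion.Quartic
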