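import Cfsg.Agent.Fusion.Quartic.Shapes

/-!
A nonabelian two-generator group of order `p ^ 4` has a distinguished maximal subgroup.
-/

set_option autoImplicit false
set_option linter.style.haveILetI false
set_option linter.unusedSectionVars false

namespace Cfsg.Lib.Fusion.Quartic

open Subgroup Cfsg.Lib.Fusion
open scoped commutatorElement

universe u

variable {p : ℕ} [hp : Fact p.Prime] {H : Type u} [Group H] [Finite H]

theorem exists_char_index (hcard : Nat.card H = p ^ 4) (hr : (frattini H).index = p ^ 2)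
    (hnab : ∃ a b : H, a * b ≠ b * a) :
    ∃ M : Subgroup H, M.index = p ∧ ∀ α : MulAut H, ∀ q ∈ M, α q ∈ M := by
  classical
  have hP : IsPGroup p H := IsPGroup.of_card hcard
  set Φ := frattini H
  have hΦ : Nat.card Φ = p ^ 2 := by
    have h := Φ.card_mul_index
    rw [hr, hcard] at h
    exact Nat.eq_of_mul_eq_mul_right (pow_pos hp.out.pos 2) (h.trans (by ring))
  have hΦc : ∀ α : MulAut H, ∀ q ∈ Φ, α q ∈ Φ := fun α q hq => by
    have hc : (frattini H).Characteristic := inferInstance
    rw [characteristic_iff_map_le] at hc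
    exact hc α ⟨q, hq, rfl⟩
  by_cases hΦZ : Φ ≤ center H
  · obtain ⟨-, -, -, hD⟩ := center_index_sq hP
      ((Nat.le_of_dvd (by rw [hr]; exact pow_pos hp.out.pos 2) (index_dvd_of_le hΦZ)).trans hr.le) hnab
    set D := commutator H with hDdef
    haveI : IsMulCommutative (H ⧸ D) := Subgroup.Normal.quotient_commutative_iff_commutator_le.mpr le_rfl
    let f : H →* H ⧸ D :=
      { toFun := fun x => (QuotientGroup.mk' D x) ^ p
        map_one' := by simp
        map_mul' := fun x y => by rw [map_mul]; exact (show Commute (QuotientGroup.mk' D x) (QuotientGroup.mk' D y) from mul_comm' _ _).mul_pow p }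
    have hfD : f.ker.index = p := by
      rw [Subgroup.index_ker]
      have hle : f.range ≤ Φ.map (QuotientGroup.mk' D) := by
        rintro _ ⟨x, rfl⟩
        exact ⟨x ^ p, Cfsg.Lib.PGroups.pow_mem_frattini hP x, map_pow _ _ _⟩
      have hDΦ : D ≤ Φ := Cfsg.Lib.PGroups.commutator_le_frattini hP
      have hmap : Nat.card (Φ.map (QuotientGroup.mk' D)) = p := by
        let g := (QuotientGroup.mk' D).comp Φ.subtype
        have hg : Φ.map (QuotientGroup.mk' D) = g.range := by
          rw [MonoidHom.range_comp, Subgroup.range_subtype]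
        rw [hg, ← Subgroup.index_ker]
        have hk : g.ker = D.subgroupOf Φ := by
          ext x; rw [MonoidHom.mem_ker, mem_subgroupOf]; exact QuotientGroup.eq_one_iff _
        have h := g.ker.card_mul_index
        rw [hk, Nat.card_congr (subgroupOfEquivOfLe hDΦ).toEquiv, hD, hΦ, pow_two] at h
        rw [hk]
        exact Nat.eq_of_mul_eq_mul_left hp.out.pos h
      have hne : f.range ≠ ⊥ := by
        intro e
        have hall : ∀ x : H, x ^ p ∈ D := fun x => by
          have h : f x = 1 := Subgroup.mem_bot.mp (e ▸ ⟨x, rfl⟩)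
          rwa [show f x = QuotientGroup.mk' D (x ^ p) from (map_pow _ _ _).symm,
            QuotientGroup.mk'_apply, QuotientGroup.eq_one_iff] at h
        have h := card_le_of_le (Cfsg.Lib.PGroups.SpecialCoprime.frattini_le_of_elementary (p := p) D hall le_rfl)
        rw [hD, hΦ] at h
        exact absurd h (not_le.mpr (by
          calc p = p ^ 1 := (pow_one p).symm
            _ < p ^ 2 := Nat.pow_lt_pow_right hp.out.one_lt (by norm_num)))
      refine le_antisymm ((card_le_of_le hle).trans hmap.le) ?_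
      obtain ⟨i, hi⟩ := IsPGroup.iff_card.mp ((hP.to_quotient D).to_subgroup f.range)
      rw [hi]
      exact Nat.le_self_pow (fun h0 => hne (card_eq_one.mp (by rw [hi, h0, pow_zero]))) p
    refine ⟨f.ker, hfD, fun α q hq => ?_⟩
    have hq' : q ^ p ∈ D := by
      have h : f q = 1 := hq
      rwa [show f q = QuotientGroup.mk' D (q ^ p) from (map_pow _ _ _).symm,
        QuotientGroup.mk'_apply, QuotientGroup.eq_one_iff] at h
    show f (α q) = 1
    rw [show f (α q) = QuotientGroup.mk' D ((α q) ^ p) from (map_pow _ _ _).symm,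
      QuotientGroup.mk'_apply, QuotientGroup.eq_one_iff, ← map_pow]
    have hc : (commutator H).Characteristic := inferInstance
    rw [characteristic_iff_map_le] at hc
    exact hc α ⟨_, hq', rfl⟩
  -- the centralizer of the Frattini subgroup
  obtain ⟨d, hd, hdZ⟩ := SetLike.not_le_iff_exists.mp hΦZ
  set Z₁ := Φ ⊓ center H with hZ1
  have hZ1c : Nat.card Z₁ = p := by
    haveI : Φ.Normal := inferInstance
    haveI : Nontrivial Φ := (Finite.one_lt_card_iff_nontrivial).mp (by
      rw [hΦ]; exact Nat.one_lt_pow (by norm_num) hp.out.one_lt)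
    obtain ⟨z, hz, hzc, hzo⟩ := Cfsg.Lib.PGroups.exists_mem_center_of_normal_ne_bot hP (N := Φ) (by
      intro e; rw [e, card_bot] at hΦ; exact absurd hΦ.symm (Nat.one_lt_pow (by norm_num) hp.out.one_lt).ne')
    have hne : Z₁ ≠ ⊥ := fun e => hp.out.ne_one (by
      rw [← hzo, Subgroup.mem_bot.mp (e.le ⟨hz, hzc⟩), orderOf_one])
    have hlt : Z₁ < Φ := lt_of_le_of_ne inf_le_left fun e => hdZ (e.ge hd).2
    obtain ⟨i, hi⟩ := IsPGroup.iff_card.mp (hP.to_subgroup Z₁)
    have h2 : Nat.card Z₁ < p ^ 2 := hΦ ▸ lt_of_le_of_ne (card_le_of_le hlt.le)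
      fun h => hlt.ne (eq_of_le_of_card_ge hlt.le h.ge)
    rw [hi] at h2 ⊢
    have hi2 := (Nat.pow_lt_pow_iff_right hp.out.one_lt).mp h2
    have hi0 : i ≠ 0 := fun h0 => hne (card_eq_one.mp (by rw [hi, h0, pow_zero]))
    rw [show i = 1 by omega, pow_one]
  haveI : Z₁.Normal := inferInstance
  have hdisp : ∀ x : H, ⁅x, d⁆ ∈ Z₁ := fun x =>
    RankTwo.disp_mem_step hP (MulAut.conj x) (by
        obtain ⟨k, hk⟩ := hP x
        exact ⟨k, by rw [← map_pow, hk, map_one]⟩) (inf_le_left : Z₁ ≤ Φ) (by rw [hΦ, hZ1c, pow_two])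
      (fun y hy => (inferInstance : Φ.Normal).conj_mem y hy x)
      (fun y hy => (inferInstance : Z₁.Normal).conj_mem y hy x) d hd
  let f : H →* Z₁ :=
    { toFun := fun x => ⟨⁅x, d⁆, hdisp x⟩
      map_one' := Subtype.ext (commutatorElement_one_left d)
      map_mul' := fun x y => Subtype.ext (by
        have e := mem_center_iff.mp (hdisp y).2
        show ⁅x * y, d⁆ = ⁅x, d⁆ * ⁅y, d⁆
        calc ⁅x * y, d⁆ = x * ⁅y, d⁆ * (d * x⁻¹ * d⁻¹) := by
              rw [commutatorElement_def, commutatorElement_def]; group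
          _ = ⁅y, d⁆ * x * (d * x⁻¹ * d⁻¹) := by rw [e]
          _ = ⁅y, d⁆ * ⁅x, d⁆ := by rw [commutatorElement_def x d]; group
          _ = _ := (e _).symm) }
  have hgen : Φ = Z₁ ⊔ zpowers d := (eq_of_le_of_card_ge (sup_le inf_le_left (zpowers_le.mpr hd)) (by
    have := sup_zpowers_card_ge hP (K := Z₁) (x := d) fun h => hdZ h.2
    rw [hZ1c, ← pow_two] at this
    rw [hΦ]; exact this)).symm
  have hker : ∀ x : H, x ∈ f.ker ↔ ∀ y ∈ Φ, x * y = y * x := by
    intro x
    constructor
    · intro hx y hy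
      have hxd : x * d = d * x :=
        commutatorElement_eq_one_iff_mul_comm.mp (congrArg Subtype.val hx)
      have hle : Φ ≤ centralizer {x} := by
        rw [hgen]
        exact sup_le (fun z hz => mem_centralizer_singleton_iff.mpr (mem_center_iff.mp hz.2 x).symm)
          (zpowers_le.mpr (mem_centralizer_singleton_iff.mpr hxd.symm))
      exact (mem_centralizer_singleton_iff.mp (hle hy)).symm
    · exact fun h => Subtype.ext (commutatorElement_eq_one_iff_mul_comm.mpr (h d hd))
  refine ⟨f.ker, ?_, fun α q hq => (hker _).mpr fun y hy => ?_⟩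
  · rw [Subgroup.index_ker]
    refine le_antisymm ((card_le_card_group f.range).trans hZ1c.le) ?_
    have hne : f.range ≠ ⊥ := fun e => hdZ (mem_center_iff.mpr fun x => by
      have h : f x = 1 := Subgroup.mem_bot.mp (e ▸ ⟨x, rfl⟩)
      exact commutatorElement_eq_one_iff_mul_comm.mp (congrArg Subtype.val h))
    obtain ⟨i, hi⟩ := IsPGroup.iff_card.mp ((hP.to_subgroup Z₁).to_subgroup f.range)
    rw [hi]
    exact Nat.le_self_pow (fun h0 => hne (card_eq_one.mp (by rw [hi, h0, pow_zero]))) p
  · have h := congrArg α ((hker q).mp hq _ (hΦc α⁻¹ y hy))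
    simpa using h

end Cfsg.Lib.Fusion.Quartic
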