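import Cfsg.Agent.Fusion.Quartic.Flag
import Cfsg.Agent.Fusion.ExceptionShape
import Cfsg.Agent.Fusion.ReplacementExtra
import Cfsg.Agent.Fusion.CenterIndex
import Cfsg.Agent.PGroups.SpecialCoprime
import Cfsg.Agent.PGroups.MetacyclicTwo
import Cfsg.Agent.Wreathed.Model

/-!
Groups of order `p ^ 4` with an automorphism group having several Sylow subgroups.
-/

set_option autoImplicit false
set_option linter.style.haveILetI false
set_option linter.unusedSectionVars false

namespace Cfsg.Lib.Fusion.Quartic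

open Subgroup Cfsg.Lib.Fusion
open scoped commutatorElement

universe u

variable {p : ℕ} [hp : Fact p.Prime] {H : Type u} [Group H] [Finite H]

theorem index_eq_of_card {K : Subgroup H} {a b : ℕ} (hK : Nat.card K = a) (ha : 0 < a)
    (hH : Nat.card H = a * b) : K.index = b := by
  have h := K.card_mul_index
  rw [hK, hH] at h
  exact Nat.eq_of_mul_eq_mul_left ha h

theorem sup_zpowers_card_ge (hG : IsPGroup p H) {K : Subgroup H} {x : H} (hx : x ∉ K) :
    p * Nat.card K ≤ Nat.card (K ⊔ zpowers x : Subgroup H) := by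
  have hlt : K < K ⊔ zpowers x := lt_of_le_of_ne le_sup_left fun e =>
    hx (e.symm ▸ mem_sup_right (mem_zpowers x))
  obtain ⟨i, hi⟩ := IsPGroup.iff_card.mp (hG.to_subgroup K)
  obtain ⟨j, hj⟩ := IsPGroup.iff_card.mp (hG.to_subgroup (K ⊔ zpowers x))
  have h : Nat.card K < Nat.card (K ⊔ zpowers x : Subgroup H) :=
    lt_of_le_of_ne (card_le_of_le hlt.le) fun h => hlt.ne (eq_of_le_of_card_ge hlt.le h.ge)
  rw [hi, hj] at h ⊢
  rw [← pow_succ']
  exact Nat.pow_le_pow_right hp.out.pos ((Nat.pow_lt_pow_iff_right hp.out.one_lt).mp h)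

theorem sup_zpowers_card_le {K : Subgroup H} [K.Normal] {x : H} (hx : x ^ p ∈ K) :
    Nat.card (K ⊔ zpowers x : Subgroup H) ≤ p * Nat.card K := by
  classical
  have hsurj : Function.Surjective (fun v : Fin p × K =>
      (⟨(v.2 : H) * x ^ (v.1 : ℕ), mul_mem (mem_sup_left v.2.2)
        (pow_mem (mem_sup_right (mem_zpowers x)) _)⟩ : (K ⊔ zpowers x : Subgroup H))) := by
    rintro ⟨y, hy⟩
    obtain ⟨k, hk, _, ⟨i, rfl⟩, rfl⟩ := mem_sup_of_normal_left.mp hy
    have hnn : 0 ≤ i % (p : ℤ) := Int.emod_nonneg _ (by exact_mod_cast hp.out.ne_zero)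
    have hlt : (i % (p : ℤ)).toNat < p := by
      have := Int.emod_lt_of_pos i (by exact_mod_cast hp.out.pos : (0 : ℤ) < p)
      omega
    refine ⟨(⟨_, hlt⟩, ⟨k * (x ^ p) ^ (i / (p : ℤ)), mul_mem hk (zpow_mem hx _)⟩), Subtype.ext ?_⟩
    show k * (x ^ p) ^ (i / (p : ℤ)) * x ^ (i % (p : ℤ)).toNat = k * x ^ i
    rw [← zpow_natCast x (i % (p : ℤ)).toNat, Int.toNat_of_nonneg hnn, ← zpow_natCast x p, ← zpow_mul,
      mul_assoc, ← zpow_add, Int.mul_ediv_add_emod]
  have h := Nat.card_le_card_of_surjective _ hsurj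
  rwa [Nat.card_prod, Nat.card_fin] at h

variable (hcard : Nat.card H = p ^ 4)
include hcard

theorem isP : IsPGroup p H := IsPGroup.of_card hcard

/-- The data of the case of a Frattini quotient of order `p ^ 3`. -/
theorem frattini_facts (hr : (frattini H).index = p ^ 3) :
    Nat.card (frattini H) = p ∧ (frattini H) ≤ center H ∧ (∀ x : H, x ^ p ∈ frattini H) ∧
      (∀ a b : H, ⁅a, b⁆ ∈ frattini H) := by
  have hP := isP hcard
  have h1 : Nat.card (frattini H) = p := by
    have h := (frattini H).card_mul_index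
    rw [hr, hcard] at h
    exact Nat.eq_of_mul_eq_mul_right (pow_pos hp.out.pos 3) (h.trans (by ring))
  haveI : (frattini H).Normal := inferInstance
  refine ⟨h1, Cfsg.Lib.PGroups.le_center_of_card_eq_prime hP h1,
    fun x => Cfsg.Lib.PGroups.pow_mem_frattini hP x, fun a b => ?_⟩
  exact Cfsg.Lib.PGroups.commutator_le_frattini hP
    (commutator_mem_commutator (mem_top a) (mem_top b))

theorem shape_abelian (hr : (frattini H).index = p ^ 3) (hab : ∀ a b : H, a * b = b * a) :
    Nonempty (H ≃* Multiplicative (ZMod (p ^ 2) × ZMod p × ZMod p)) := by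
  classical
  obtain ⟨hΦ, -, hpow, -⟩ := frattini_facts hcard hr
  have hP := isP hcard
  letI : CommGroup H := { (inferInstance : Group H) with mul_comm := hab }
  let f : H →* H := powMonoidHom p
  obtain ⟨x, hx⟩ : ∃ x : H, x ^ p ≠ 1 := by
    by_contra hno
    push Not at hno
    rw [Cfsg.Lib.SolvStruct.frattini_eq_bot_of_elementary (p := p) hno hab, card_bot] at hΦ
    exact hp.out.ne_one hΦ.symm
  have hfr : f.range = frattini H := by
    refine eq_of_le_of_card_ge (by rintro _ ⟨y, rfl⟩; exact hpow y) ?_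
    rw [hΦ]
    have hne : f.range ≠ ⊥ := fun e => hx (Subgroup.mem_bot.mp (e ▸ ⟨x, rfl⟩))
    obtain ⟨i, hi⟩ := IsPGroup.iff_card.mp (hP.to_subgroup f.range)
    rw [hi]
    exact Nat.le_self_pow (fun h0 => hne (card_eq_one.mp (by rw [hi, h0, pow_zero]))) p
  have hpp : x ^ p ^ 2 = 1 := by
    rw [pow_two, pow_mul]
    have hd := Subgroup.orderOf_dvd_natCard _ (hpow x)
    rw [hΦ] at hd
    exact orderOf_dvd_iff_pow_eq_one.mp hd
  have hker : Nat.card f.ker = p ^ 3 := by
    have h := f.ker.card_mul_index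
    rw [Subgroup.index_ker, hfr, hΦ, hcard, pow_succ p 3] at h
    exact Nat.eq_of_mul_eq_mul_right hp.out.pos h
  have hox : orderOf x = p ^ 2 := orderOf_eq_prime_pow (by rwa [pow_one]) hpp
  have hkx : f.ker ⊓ zpowers x ≤ zpowers (x ^ p) := by
    rintro y ⟨hy, i, rfl⟩
    have hy' : (x ^ i) ^ p = 1 := hy
    rw [← zpow_natCast, ← zpow_mul, ← orderOf_dvd_iff_zpow_eq_one, hox] at hy'
    push_cast at hy'
    rw [pow_two] at hy'
    obtain ⟨m, hm⟩ := (mul_dvd_mul_iff_right (by exact_mod_cast hp.out.ne_zero)).mp hy'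
    exact ⟨m, show (x ^ p) ^ m = x ^ i by rw [hm, zpow_mul, zpow_natCast]⟩
  obtain ⟨v, hv, hvx⟩ : ∃ v ∈ f.ker, v ∉ zpowers (x ^ p) := by
    by_contra hno
    push Not at hno
    have h := card_le_of_le (show f.ker ≤ zpowers (x ^ p) from hno)
    rw [hker, Nat.card_zpowers, orderOf_eq_prime (by rw [← pow_mul, ← pow_two]; exact hpp) hx] at h
    exact absurd h (not_le.mpr (by
      calc p = p ^ 1 := (pow_one p).symm
        _ < p ^ 3 := Nat.pow_lt_pow_right hp.out.one_lt (by norm_num)))
  obtain ⟨w, hw, hwx⟩ : ∃ w ∈ f.ker, w ∉ zpowers (x ^ p) ⊔ zpowers v := by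
    by_contra hno
    push Not at hno
    have h := (card_le_of_le (show f.ker ≤ zpowers (x ^ p) ⊔ zpowers v from hno)).trans
      (sup_zpowers_card_le (p := p) (by rw [show v ^ p = 1 from hv]; exact one_mem _))
    rw [hker, Nat.card_zpowers, orderOf_eq_prime (by rw [← pow_mul, ← pow_two]; exact hpp) hx] at h
    exact absurd h (not_le.mpr (by
      calc p * p = p ^ 2 := (pow_two p).symm
        _ < p ^ 3 := Nat.pow_lt_pow_right hp.out.one_lt (by norm_num)))
  have h1 : v ∉ zpowers x := fun h => hvx (hkx ⟨hv, h⟩)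
  have h2 : w ∉ zpowers x ⊔ zpowers v := fun h => by
    obtain ⟨a, ha, b, hb, e⟩ := mem_sup.mp h
    have hbk : b ∈ f.ker := zpowers_le.mpr hv hb
    have hak : a ∈ f.ker := by
      rw [show a = w * b⁻¹ by rw [← e, mul_inv_cancel_right]]
      exact mul_mem hw (inv_mem hbk)
    exact hwx (e ▸ mul_mem (mem_sup_left (hkx ⟨hak, ha⟩)) (mem_sup_right hb))
  have htop : zpowers x ⊔ zpowers v ⊔ zpowers w = ⊤ := by
    refine eq_top_of_le_card _ ?_
    have c1 := sup_zpowers_card_ge hP h1
    have c2 := sup_zpowers_card_ge hP h2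
    rw [Nat.card_zpowers, hox] at c1
    calc Nat.card H = p * (p * p ^ 2) := by rw [hcard]; ring
      _ ≤ p * Nat.card (zpowers x ⊔ zpowers v : Subgroup H) := Nat.mul_le_mul le_rfl c1
      _ ≤ _ := c2
  let g₁ := Cfsg.Lib.Wreathed.zmodPow (N := p ^ 2) x hox.dvd
  let g₂ := Cfsg.Lib.Wreathed.zmodPow (N := p) v (orderOf_dvd_of_pow_eq_one hv)
  let g₃ := Cfsg.Lib.Wreathed.zmodPow (N := p) w (orderOf_dvd_of_pow_eq_one hw)
  let g : Multiplicative (ZMod (p ^ 2) × ZMod p × ZMod p) →* H :=
    { toFun := fun t => g₁ (Multiplicative.ofAdd t.toAdd.1) *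
        (g₂ (Multiplicative.ofAdd t.toAdd.2.1) * g₃ (Multiplicative.ofAdd t.toAdd.2.2))
      map_one' := by simp
      map_mul' := fun s t => by
        simp only [toAdd_mul, Prod.fst_add, Prod.snd_add, ofAdd_add, map_mul]
        ac_rfl }
  have hgs : Function.Surjective g := by
    rw [← MonoidHom.range_eq_top, eq_top_iff, ← htop]
    refine sup_le (sup_le ?_ ?_) ?_ <;> rw [zpowers_le]
    · refine ⟨Multiplicative.ofAdd (((1 : ℤ) : ZMod (p ^ 2)), ((0 : ℤ) : ZMod p), ((0 : ℤ) : ZMod p)), ?_⟩
      simp only [g, g₁, g₂, g₃, MonoidHom.coe_mk, OneHom.coe_mk, toAdd_ofAdd,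
        Cfsg.Lib.Wreathed.zmodPow_apply]
      simp
    · refine ⟨Multiplicative.ofAdd (((0 : ℤ) : ZMod (p ^ 2)), ((1 : ℤ) : ZMod p), ((0 : ℤ) : ZMod p)), ?_⟩
      simp only [g, g₁, g₂, g₃, MonoidHom.coe_mk, OneHom.coe_mk, toAdd_ofAdd,
        Cfsg.Lib.Wreathed.zmodPow_apply]
      simp
    · refine ⟨Multiplicative.ofAdd (((0 : ℤ) : ZMod (p ^ 2)), ((0 : ℤ) : ZMod p), ((1 : ℤ) : ZMod p)), ?_⟩
      simp only [g, g₁, g₂, g₃, MonoidHom.coe_mk, OneHom.coe_mk, toAdd_ofAdd,
        Cfsg.Lib.Wreathed.zmodPow_apply]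
      simp
  have hbij := (Nat.bijective_iff_surjective_and_card g).mpr ⟨hgs, by
    rw [hcard, Nat.card_congr Multiplicative.toAdd, Nat.card_prod, Nat.card_prod, Nat.card_zmod,
      Nat.card_zmod]
    ring⟩
  exact ⟨(MulEquiv.ofBijective g hbij).symm⟩

theorem center_facts (hr : (frattini H).index = p ^ 3) (hnab : ∃ a b : H, a * b ≠ b * a) :
    Nat.card (center H) = p ^ 2 := by
  classical
  obtain ⟨hΦ, hΦZ, hpow, hcomm⟩ := frattini_facts hcard hr
  have hP := isP hcard
  haveI : Finite (frattini H) := inferInstance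
  -- centralizers have index at most `p`
  have hC : ∀ (P : Subgroup H) (x : H),
      Nat.card P ≤ p * Nat.card (P ⊓ centralizer {x} : Subgroup H) := fun P x => by
    let f : P →* frattini H :=
      { toFun := fun y => ⟨⁅x, (y : H)⁆, hcomm x y⟩
        map_one' := Subtype.ext (by simp)
        map_mul' := fun a b => Subtype.ext (by
          have e : (a : H)⁻¹ * ⁅x, (b : H)⁆ = ⁅x, (b : H)⁆ * (a : H)⁻¹ := mem_center_iff.mp (hΦZ (hcomm x b)) _
          show ⁅x, (a : H) * b⁆ = ⁅x, (a : H)⁆ * ⁅x, (b : H)⁆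
          calc ⁅x, (a : H) * b⁆ = x * a * x⁻¹ * (⁅x, (b : H)⁆ * (a : H)⁻¹) := by
                rw [commutatorElement_def, commutatorElement_def]; group
            _ = x * a * x⁻¹ * ((a : H)⁻¹ * ⁅x, (b : H)⁆) := by rw [e]
            _ = _ := by rw [commutatorElement_def, commutatorElement_def]; group) }
    have hk : f.ker = (P ⊓ centralizer {x}).subgroupOf P := by
      ext y
      rw [MonoidHom.mem_ker, mem_subgroupOf, mem_inf, mem_centralizer_singleton_iff]
      exact ⟨fun e => ⟨y.2, (commutatorElement_eq_one_iff_mul_comm.mp (congrArg Subtype.val e)).symm⟩,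
        fun e => Subtype.ext (commutatorElement_eq_one_iff_mul_comm.mpr e.2.symm)⟩
    calc Nat.card P = Nat.card f.ker * f.ker.index := f.ker.card_mul_index.symm
      _ ≤ Nat.card (P ⊓ centralizer {x} : Subgroup H) * p := by
        rw [hk, Nat.card_congr (subgroupOfEquivOfLe inf_le_left).toEquiv, ← hk, index_ker]
        exact Nat.mul_le_mul le_rfl (hΦ ▸ card_le_card_group f.range)
      _ = _ := mul_comm _ _
  obtain ⟨a, b, hab⟩ := hnab
  have c1 := hC ⊤ a
  rw [Subgroup.card_top, top_inf_eq] at c1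
  have c2 := hC (centralizer {a}) b
  set D := centralizer {a} ⊓ centralizer {b}
  have hD : p ^ 2 ≤ Nat.card D := by
    refine Nat.le_of_mul_le_mul_left ?_ (Nat.mul_pos hp.out.pos hp.out.pos)
    calc p * p * p ^ 2 = Nat.card H := by rw [hcard]; ring
      _ ≤ p * (p * Nat.card D) := c1.trans (Nat.mul_le_mul le_rfl c2)
      _ = _ := by ring
  obtain ⟨u, hu, huΦ⟩ : ∃ u ∈ D, u ∉ frattini H := by
    by_contra hno
    push Not at hno
    have h := hD.trans (card_le_of_le (show D ≤ frattini H from hno))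
    rw [hΦ] at h
    exact absurd h (not_le.mpr (by
      calc p = p ^ 1 := (pow_one p).symm
        _ < p ^ 2 := Nat.pow_lt_pow_right hp.out.one_lt (by norm_num)))
  haveI : (frattini H).Normal := inferInstance
  set U := frattini H ⊔ zpowers u
  have hUa : U ≤ centralizer {a} := sup_le (fun z hz => mem_centralizer_singleton_iff.mpr
    ((mem_center_iff.mp (hΦZ hz) a).symm)) (zpowers_le.mpr hu.1)
  have hUb : U ≤ centralizer {b} := sup_le (fun z hz => mem_centralizer_singleton_iff.mpr
    ((mem_center_iff.mp (hΦZ hz) b).symm)) (zpowers_le.mpr hu.2)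
  have haU : a ∉ U := fun h => hab (mem_centralizer_singleton_iff.mp (hUb h))
  have hbU : b ∉ U ⊔ zpowers a := fun h => hab.symm (mem_centralizer_singleton_iff.mp
    ((sup_le hUa (zpowers_le.mpr (mem_centralizer_singleton_iff.mpr rfl))) h))
  have k1 := sup_zpowers_card_ge hP huΦ
  have k2 := sup_zpowers_card_ge hP haU
  have k3 := sup_zpowers_card_ge hP hbU
  have htop : U ⊔ zpowers a ⊔ zpowers b = ⊤ := eq_top_of_le_card _ (by
    rw [hΦ] at k1
    calc Nat.card H = p * (p * (p * p)) := by rw [hcard]; ring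
      _ ≤ p * (p * Nat.card U) := Nat.mul_le_mul le_rfl (Nat.mul_le_mul le_rfl k1)
      _ ≤ p * Nat.card (U ⊔ zpowers a : Subgroup H) := Nat.mul_le_mul le_rfl k2
      _ ≤ _ := k3)
  have huZ : u ∈ center H := by
    rw [mem_center_iff]
    have hall : (⊤ : Subgroup H) ≤ centralizer {u} := by
      rw [← htop]
      refine sup_le (sup_le (sup_le (fun z hz => ?_) ?_) ?_) ?_
      · exact mem_centralizer_singleton_iff.mpr (mem_center_iff.mp (hΦZ hz) u).symm
      all_goals rw [zpowers_le, mem_centralizer_singleton_iff]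
      · exact (mem_centralizer_singleton_iff.mp hu.1).symm
      · exact (mem_centralizer_singleton_iff.mp hu.2).symm
    exact fun g => mem_centralizer_singleton_iff.mp (hall (mem_top g))
  have hUZ : U ≤ center H := sup_le hΦZ (zpowers_le.mpr huZ)
  have hlow : p ^ 2 ≤ Nat.card (center H) := by
    refine le_trans ?_ (card_le_of_le hUZ)
    rwa [hΦ, ← pow_two] at k1
  obtain ⟨i, hi⟩ := IsPGroup.iff_card.mp (hP.to_subgroup (center H))
  rw [hi] at hlow ⊢
  by_contra hne
  have h3 : 3 ≤ i := by
    have h2 : 2 ≤ i := (Nat.pow_le_pow_iff_right hp.out.one_lt).mp hlow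
    rcases h2.eq_or_lt with h | h
    · exact absurd (by rw [← h]) hne
    · exact h
  have haZ : a ∉ center H := fun h => hab (mem_center_iff.mp h b).symm
  have hbZ : b ∉ center H ⊔ zpowers a := fun h => hab.symm (mem_centralizer_singleton_iff.mp
    ((sup_le (center_le_centralizer _) (zpowers_le.mpr (mem_centralizer_singleton_iff.mpr rfl))) h))
  have z1 := sup_zpowers_card_ge hP haZ
  have z2 := sup_zpowers_card_ge hP hbZ
  rw [hi] at z1
  have htot : p * (p * p ^ 3) ≤ p ^ 4 := hcard ▸
    ((Nat.mul_le_mul le_rfl ((Nat.mul_le_mul le_rfl (Nat.pow_le_pow_right hp.out.pos h3)).trans z1)).trans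
      (z2.trans (card_le_card_group _)))
  rw [← pow_succ', ← pow_succ'] at htot
  exact absurd htot (not_le.mpr (Nat.pow_lt_pow_right hp.out.one_lt (by norm_num)))

/-- A noncentral subgroup of order `p ^ 3` and a central element give a product. -/
theorem exists_prod {E : Subgroup H} {a b : H} (ha : a ∈ E) (hb : b ∈ E) (hab : a * b ≠ b * a)
    (hE : Nat.card E = p ^ 3) {u : H} (hu : u ∈ center H) (hup : u ^ p = 1) (huE : u ∉ E) :
    ∃ (E' : Type) (_ : Group E') (_ : Finite E'), Cfsg.IsExtraspecial p E' ∧ Nat.card E' = p ^ 3 ∧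
      Nonempty (E' ≃* E) ∧ Nonempty (H ≃* E' × Multiplicative (ZMod p)) := by
  obtain ⟨n, ⟨e₀⟩⟩ := Finite.exists_equiv_fin E
  let T := {i : Fin n // True}
  let e : E ≃ T := e₀.trans (Equiv.subtypeUnivEquiv fun _ => trivial).symm
  letI : Group T := e.symm.group
  have em : T ≃* E := e.symm.mulEquiv
  let g₂ := Cfsg.Lib.Wreathed.zmodPow (N := p) u (orderOf_dvd_of_pow_eq_one hup)
  let f : E × Multiplicative (ZMod p) →* H :=
    { toFun := fun t => (t.1 : H) * g₂ t.2
      map_one' := by simp
      map_mul' := fun s t => by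
        have hc : g₂ s.2 * (t.1 : H) = (t.1 : H) * g₂ s.2 := by
          obtain ⟨k, -, hk⟩ := Cfsg.Lib.Wreathed.exists_zmodPow u (orderOf_dvd_of_pow_eq_one hup) s.2.toAdd
          rw [show g₂ s.2 = u ^ k from hk]
          exact (show Commute (u : H) t.1 from (mem_center_iff.mp hu t.1).symm).zpow_left k
        rw [Prod.fst_mul, Prod.snd_mul, map_mul, Subgroup.coe_mul, mul_assoc (s.1 : H) (g₂ s.2),
          ← mul_assoc (g₂ s.2), hc]
        group }
  have hsurj : Function.Surjective f := by
    rw [← MonoidHom.range_eq_top]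
    refine eq_top_of_le_card _ ?_
    have hle : E ⊔ zpowers u ≤ f.range := sup_le (fun x hx => ⟨(⟨x, hx⟩, 1), by simp [f]⟩)
      (zpowers_le.mpr ⟨(1, Multiplicative.ofAdd ((1 : ℤ) : ZMod p)), by
        show ((1 : E) : H) * g₂ (Multiplicative.ofAdd ((1 : ℤ) : ZMod p)) = u
        rw [Cfsg.Lib.Wreathed.zmodPow_apply, zpow_one, Subgroup.coe_one, one_mul]⟩)
    refine le_trans ?_ (card_le_of_le hle)
    refine le_trans ?_ (sup_zpowers_card_ge (isP hcard) huE)
    rw [hcard, hE]
    exact le_of_eq (by ring)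
  have hbij := (Nat.bijective_iff_surjective_and_card f).mpr ⟨hsurj, by
    rw [Nat.card_prod, hE, Nat.card_congr Multiplicative.toAdd, Nat.card_zmod, hcard]
    ring⟩
  have hcn : Nat.card T = p ^ 3 := by rw [Nat.card_congr em.toEquiv, hE]
  refine ⟨T, inferInstance, inferInstance,
    isExtraspecial_of_cube hcn (a := em.symm ⟨a, ha⟩) (b := em.symm ⟨b, hb⟩) ?_, hcn, ⟨em⟩,
    ⟨(MulEquiv.ofBijective f hbij).symm.trans (em.symm.prodCongr (MulEquiv.refl _))⟩⟩
  rw [← map_mul, ← map_mul]
  exact fun h => hab (congrArg Subtype.val (em.symm.injective h))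

/-- A set of squares cut out by an invariant flag is impossible. -/
theorem false_of_between (hr : (frattini H).index = p ^ 3) (hnab : ∃ a b : H, a * b ≠ b * a)
    (A : Subgroup (MulAut H)) {R₁ R₂ : Sylow p A} (hR : R₁ ≠ R₂) {K : Subgroup H}
    (hZK : center H ≤ K) (hK : Nat.card K = p ^ 3) (hinv : ∀ (α : MulAut H), ∀ q ∈ K, α q ∈ K) : False := by
  obtain ⟨hΦ, hΦZ, -, -⟩ := frattini_facts hcard hr
  have hZ := center_facts hcard hr hnab
  refine hR (@Subsingleton.elim _ (subsingleton_sylow_of_flag (isP hcard) (center H) K hΦZ hZK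
    (by rw [hZ, hΦ]; ring) (by rw [hK, hZ]; ring) (by rw [hcard, hK]; ring) A (fun α _ q hq => ?_)
    fun α _ => hinv α) R₁ R₂)
  have hc : (center H).Characteristic := inferInstance
  rw [characteristic_iff_map_le] at hc
  exact hc α ⟨q, hq, rfl⟩

/-- The shapes with a Frattini quotient of order `p ^ 3`. -/
theorem shape_nonabelian (hr : (frattini H).index = p ^ 3) (hnab : ∃ a b : H, a * b ≠ b * a)
    (A : Subgroup (MulAut H)) {R₁ R₂ : Sylow p A} (hR : R₁ ≠ R₂) :
    (Odd p ∧ ∃ (E : Type) (_ : Group E) (_ : Finite E), Cfsg.IsExtraspecial p E ∧ Nat.card E = p ^ 3 ∧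
        (∀ x : E, x ^ p = 1) ∧ Nonempty (H ≃* E × Multiplicative (ZMod p))) ∨
      (p = 2 ∧ Nonempty (H ≃* QuaternionGroup 2 × Multiplicative (ZMod 2))) ∨
      ((∀ x : H, x ^ (p ^ 2) = 1) ∧ IsCyclic (center H) ∧ Nat.card (center H) = p ^ 2) := by
  classical
  obtain ⟨hΦ, hΦZ, hpow, hcomm⟩ := frattini_facts hcard hr
  have hP := isP hcard
  have hZ := center_facts hcard hr hnab
  have hΦp : ∀ z ∈ frattini H, z ^ p = 1 := fun z hz =>
    orderOf_dvd_iff_pow_eq_one.mp (hΦ ▸ Subgroup.orderOf_dvd_natCard _ hz)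
  have hexp2 : ∀ x : H, x ^ (p ^ 2) = 1 := fun x => by
    rw [pow_two, pow_mul]; exact hΦp _ (hpow x)
  by_cases hcyc : IsCyclic (center H)
  · exact Or.inr (Or.inr ⟨hexp2, hcyc, hZ⟩)
  have hZp : ∀ z ∈ center H, z ^ p = 1 := by
    intro z hz
    by_contra hne
    refine hcyc (isCyclic_of_orderOf_eq_card ⟨z, hz⟩ ?_)
    rw [Subgroup.orderOf_mk, hZ]
    exact orderOf_eq_prime_pow (by rwa [pow_one]) (hexp2 z)
  obtain ⟨a, b, hab⟩ := hnab
  -- the complement
  haveI : (frattini H).Normal := inferInstance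
  set U := frattini H ⊔ zpowers a
  have hUn : U.Normal := ⟨fun x hx g => by
    have := mul_mem ((le_sup_left : frattini H ≤ U) (hcomm g x)) hx
    rwa [commutatorElement_def, inv_mul_cancel_right] at this⟩
  set E := U ⊔ zpowers b with hE
  have haΦ : a ∉ frattini H := fun h => hab (mem_center_iff.mp (hΦZ h) b).symm
  have hbU : b ∉ U := fun h => hab.symm (mem_centralizer_singleton_iff.mp ((sup_le (fun z hz =>
    mem_centralizer_singleton_iff.mpr (mem_center_iff.mp (hΦZ hz) a).symm)
    (zpowers_le.mpr (mem_centralizer_singleton_iff.mpr rfl)) : U ≤ centralizer {a}) h))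
  have hEc : Nat.card E = p ^ 3 := by
    have l1 := sup_zpowers_card_ge hP haΦ
    have l2 := sup_zpowers_card_ge hP hbU
    have u1 : Nat.card U ≤ p * Nat.card (frattini H) := sup_zpowers_card_le (hpow a)
    have u2 : Nat.card E ≤ p * Nat.card U := sup_zpowers_card_le (mem_sup_left (hpow b))
    rw [hΦ] at l1 u1
    refine le_antisymm (u2.trans ((Nat.mul_le_mul le_rfl u1).trans (le_of_eq (by ring)))) ?_
    exact le_trans (le_trans (le_of_eq (by ring)) (Nat.mul_le_mul le_rfl l1)) l2
  have haE : a ∈ E := mem_sup_left (mem_sup_right (mem_zpowers a))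
  have hbE : b ∈ E := mem_sup_right (mem_zpowers b)
  obtain ⟨u, hu, huE⟩ : ∃ u ∈ center H, u ∉ E := by
    by_contra hno
    push Not at hno
    have hZE : center H ≤ E := hno
    set W := center H ⊔ zpowers a
    have haZ : a ∉ center H := fun h => hab (mem_center_iff.mp h b).symm
    have hWE : W < E := lt_of_le_of_ne (sup_le hZE (zpowers_le.mpr haE)) fun e =>
      hab.symm (mem_centralizer_singleton_iff.mp ((sup_le (center_le_centralizer _)
        (zpowers_le.mpr (mem_centralizer_singleton_iff.mpr rfl)) : W ≤ centralizer {a}) (e.ge hbE)))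
    have h := sup_zpowers_card_ge hP haZ
    rw [hZ, ← pow_succ'] at h
    exact hWE.ne (eq_of_le_of_card_ge hWE.le (by rw [hEc]; exact h))
  obtain ⟨E', hg, hf, hex, hcE, ⟨em⟩, ⟨eH⟩⟩ := exists_prod hcard haE hbE hab hEc hu (hZp u hu) huE
  have hcomm2 : ∀ x y : H, Commute ⁅x, y⁆ x ∧ Commute ⁅x, y⁆ y := fun x y =>
    ⟨(mem_center_iff.mp (hΦZ (hcomm x y)) x).symm, (mem_center_iff.mp (hΦZ (hcomm x y)) y).symm⟩
  rcases eq_or_ne p 2 with hp2 | hp2
  · subst hp2
    refine Or.inr (Or.inl ⟨rfl, ?_⟩)
    -- squares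
    have hsq : ∀ x y : H, (y * x) ^ 2 = ⁅x, y⁆ * (y ^ 2 * x ^ 2) := fun x y => by
      have h := pow_mul_of_central_comm (x := x) (y := y) (c := ⁅x, y⁆)
        (by simp [commutatorElement_def, mul_assoc]) (hcomm2 x y).1 (hcomm2 x y).2 2
      rwa [Nat.choose_self, pow_one] at h
    obtain ⟨c, hc, hc1⟩ := (frattini H).bot_or_exists_ne_one.resolve_left fun e => by
      rw [e, card_bot] at hΦ; omega
    have htwo : ∀ z ∈ frattini H, z ≠ 1 → z = c := fun z hz hz1 => by
      by_contra hne
      have : 3 ≤ Nat.card (frattini H) := by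
        haveI := Fintype.ofFinite (frattini H)
        rw [Nat.card_eq_fintype_card]
        refine le_trans (le_of_eq ?_) (Finset.card_le_univ
          ({⟨1, one_mem _⟩, ⟨c, hc⟩, ⟨z, hz⟩} : Finset (frattini H)))
        rw [Finset.card_insert_of_notMem, Finset.card_insert_of_notMem, Finset.card_singleton]
        · simp [Subtype.ext_iff, Ne.symm hne]
        · simp [Subtype.ext_iff, Ne.symm hc1, Ne.symm hz1]
      omega
    have hclass : ∀ x y : H, x * y ≠ y * x → (x ^ 2 = 1 ∨ y ^ 2 = 1) → False := by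
      -- some pair with a square trivial gives an invariant subgroup of order eight
      suffices h : ∀ x y : H, x * y ≠ y * x → x ^ 2 = 1 → False by
        rintro x y hxy (h1 | h1)
        exacts [h x y hxy h1, h y x (Ne.symm hxy) h1]
      intro x y hxy hx2
      obtain ⟨d, hd, e, he, hde, hd2, he2⟩ : ∃ d, d ∉ center H ∧ ∃ e, e ∉ center H ∧
          d * e ≠ e * d ∧ d ^ 2 = 1 ∧ e ^ 2 = 1 := by
        have hxZ : x ∉ center H := fun h => hxy (mem_center_iff.mp h y).symm
        have hyZ : y ∉ center H := fun h => hxy (mem_center_iff.mp h x)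
        by_cases hy : y ^ 2 = 1
        · exact ⟨x, hxZ, y, hyZ, hxy, hx2, hy⟩
        · refine ⟨x, hxZ, y * x, fun h => hxy ?_, fun h => hxy ?_, hx2, ?_⟩
          · have e := (mem_center_iff.mp h x).symm
            rw [mul_assoc, ← mul_assoc x y x] at e
            exact (mul_right_cancel (by rw [mul_assoc]; exact e)).symm
          · rw [← mul_assoc] at h
            exact mul_right_cancel h
          · have h1 : ⁅x, y⁆ ≠ 1 := fun h => hxy (commutatorElement_eq_one_iff_mul_comm.mp h)
            rw [hsq, hx2, mul_one, htwo _ (hcomm x y) h1, htwo _ (hpow y) hy, ← pow_two, hΦp c hc]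
      set f := e * d
      have hfsq : f ^ 2 = c := by
        rw [hsq, he2, hd2, mul_one, mul_one]
        exact htwo _ (hcomm d e) fun h => hde (commutatorElement_eq_one_iff_mul_comm.mp h)
      have hZn : (center H).Normal := inferInstance
      set K := center H ⊔ zpowers f
      have hfZ : f ∉ center H := fun h => by
        have := hZp f h
        rw [hfsq] at this
        exact hc1 this
      have hKc : Nat.card K = 2 ^ 3 := le_antisymm
        ((sup_zpowers_card_le (hΦZ (hpow f))).trans (le_of_eq (by rw [hZ]; ring)))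
        (le_trans (le_of_eq (by rw [hZ]; ring)) (sup_zpowers_card_ge hP hfZ))
      refine false_of_between hcard hr ⟨a, b, hab⟩ A hR le_sup_left hKc fun α q hq => ?_
      -- outside the centre, `K` consists of the elements of order four
      have hK1 : ∀ k ∈ K, k ∈ center H ∨ k ^ 2 ≠ 1 := by
        intro k hk
        obtain ⟨z, hz, _, ⟨i, rfl⟩, rfl⟩ := mem_sup_of_normal_left.mp hk
        rcases Int.even_or_odd i with ⟨m, rfl⟩ | ⟨m, rfl⟩
        · left
          refine mul_mem hz ?_
          show f ^ (m + m) ∈ center H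
          rw [← two_mul, zpow_mul]
          exact zpow_mem (hΦZ (by rw [zpow_ofNat]; exact hpow f)) m
        · right
          have hcz : Commute z (f ^ (2 * m + 1)) := (mem_center_iff.mp hz _).symm
          show (z * f ^ (2 * m + 1)) ^ 2 ≠ 1
          rw [hcz.mul_pow, hZp z hz, one_mul, ← zpow_natCast (f ^ (2 * m + 1)), ← zpow_mul,
            show (2 * m + 1) * ((2 : ℕ) : ℤ) = 2 * (2 * m) + 2 by push_cast; ring, zpow_add, zpow_mul]
          rw [show f ^ (2 : ℤ) = c by rw [zpow_ofNat]; exact hfsq, zpow_mul, zpow_ofNat,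
            hΦp c hc, one_zpow, one_mul]
          exact hc1
      have hK2 : ∀ k : H, k ^ 2 ≠ 1 → k ∈ K := by
        intro k hk
        have hdK : d ∉ K := fun h => (hK1 d h).elim hd fun h' => h' hd2
        have htop : K ⊔ zpowers d = ⊤ := eq_top_of_le_card _ (le_trans
          (le_of_eq (by rw [hcard, hKc]; ring)) (sup_zpowers_card_ge hP hdK))
        have hKn : K.Normal := normal_of_index_eq_two (index_eq_of_card hKc (by norm_num)
          (by rw [hcard]; norm_num))
        obtain ⟨k', hk', _, ⟨i, rfl⟩, rfl⟩ := mem_sup_of_normal_left.mp (htop.ge (mem_top k))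
        rcases Int.even_or_odd i with ⟨m, rfl⟩ | ⟨m, rfl⟩
        · refine mul_mem hk' ?_
          show d ^ (m + m) ∈ K
          rw [← two_mul, zpow_mul, zpow_ofNat, hd2, one_zpow]
          exact one_mem K
        · exfalso
          have e1 : d ^ (2 * m + 1) = d := by
            rw [zpow_add_one, zpow_mul, zpow_ofNat, hd2, one_zpow, one_mul]
          change (k' * d ^ (2 * m + 1)) ^ 2 ≠ 1 at hk
          rw [e1] at hk
          refine hk ?_
          rcases hK1 k' hk' with hz | hk2
          · rw [(show Commute k' d from (mem_center_iff.mp hz d).symm).mul_pow, hZp k' hz, hd2, one_mul]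
          · have hne : ⁅d, k'⁆ ≠ 1 := fun h => by
              have hcd := commutatorElement_eq_one_iff_mul_comm.mp h
              obtain ⟨z, hz, _, ⟨j, rfl⟩, rfl⟩ := mem_sup_of_normal_left.mp hk'
              rcases Int.even_or_odd j with ⟨m', rfl⟩ | ⟨m', rfl⟩
              · refine hk2 (hZp _ (mul_mem hz ?_))
                show f ^ (m' + m') ∈ center H
                rw [← two_mul, zpow_mul]
                exact zpow_mem (hΦZ (by rw [zpow_ofNat]; exact hpow f)) m'
              · have e3 : f ^ (2 * m' + 1) = (f ^ 2) ^ m' * f := by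
                  rw [zpow_add_one, zpow_mul, zpow_ofNat]
                change d * (z * f ^ (2 * m' + 1)) = z * f ^ (2 * m' + 1) * d at hcd
                rw [e3, ← mul_assoc z] at hcd
                have hz' : z * (f ^ 2) ^ m' ∈ center H := mul_mem hz (zpow_mem (hΦZ (hpow f)) m')
                rw [← mul_assoc, mem_center_iff.mp hz' d] at hcd
                simp only [mul_assoc] at hcd
                have e4 : d * f = f * d := mul_left_cancel (mul_left_cancel hcd)
                refine hde (mul_right_cancel (b := d) ?_)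
                rw [mul_assoc d e d]
                exact e4
            rw [hsq, htwo _ (hcomm d k') hne, htwo _ (hpow k') hk2, hd2, mul_one, ← pow_two, hΦp c hc]
      rcases hK1 q hq with hz | hk
      · have hc' : (center H).Characteristic := inferInstance
        rw [characteristic_iff_map_le] at hc'
        exact (le_sup_left : center H ≤ K) (hc' α ⟨q, hz, rfl⟩)
      · exact hK2 _ (fun h => hk (α.injective (by rw [map_pow, h, map_one])))
    -- all noncentral elements have order four
    haveI := hf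
    have hnc : ∃ x y : E', x * y ≠ y * x := ⟨em.symm ⟨a, haE⟩, em.symm ⟨b, hbE⟩, fun h => by
      rw [← map_mul, ← map_mul] at h
      exact hab (congrArg Subtype.val (em.symm.injective h))⟩
    obtain ⟨x₀, y₀, hxy₀⟩ := hnc
    haveI : Group.IsNilpotent E' := (IsPGroup.of_card hcE).isNilpotent
    have hcl : 2 ≤ Group.nilpotencyClass E' := by
      by_contra hne
      have h' := (Subgroup.lowerCentralSeries_eq_bot_iff_nilpotencyClass_le (G := E') (n := 1)).2 (by omega)
      rw [Subgroup.top_lowerCentralSeries_one] at h'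
      have h2 : ⁅x₀, y₀⁆ ∈ _root_.commutator E' :=
        commutator_mem_commutator (mem_top x₀) (mem_top y₀)
      rw [h', Subgroup.mem_bot] at h2
      exact hxy₀ (commutatorElement_eq_one_iff_mul_comm.1 h2)
    have hcl' : Group.nilpotencyClass E' = 2 :=
      le_antisymm (Cfsg.Lib.MaxClass.class_le 3 E' hcE (by omega)) hcl
    rcases Cfsg.Lib.MetaTwo.shape_of_maxClass hcE le_rfl hcl' with ⟨m, hm, ⟨eD⟩⟩ | hq | ⟨m, hm, ⟨eQ⟩⟩
    · exfalso
      have hm4 : m = 4 := by
        have h := Nat.card_congr eD.toEquiv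
        rw [hcE, DihedralGroup.nat_card] at h
        norm_num at h
        omega
      subst hm4
      let q : DihedralGroup 4 → H := fun t => ((em (eD.symm t) : E) : H)
      refine hclass (q (DihedralGroup.sr 0)) (q (DihedralGroup.r 1)) (fun h => ?_) (Or.inl ?_)
      · have h' : eD.symm (DihedralGroup.sr 0 * DihedralGroup.r 1) =
            eD.symm (DihedralGroup.r 1 * DihedralGroup.sr 0) :=
          em.injective (Subtype.ext (by rw [map_mul, map_mul, map_mul, map_mul, Subgroup.coe_mul, Subgroup.coe_mul]; exact h))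
        exact absurd (eD.symm.injective h') (by decide)
      · show ((em (eD.symm (DihedralGroup.sr 0)) : E) : H) ^ 2 = 1
        rw [← Subgroup.coe_pow, ← map_pow, ← map_pow,
          show (DihedralGroup.sr 0 : DihedralGroup 4) ^ 2 = 1 by decide, map_one, map_one,
          Subgroup.coe_one]
    · exfalso
      obtain ⟨n, hn, hc', -⟩ := hq
      rw [hcE] at hc'
      have := Nat.pow_right_injective le_rfl hc'
      omega
    · have hm2 : m = 2 := by
        haveI : NeZero m := ⟨by omega⟩
        have h := Nat.card_congr eQ.toEquiv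
        rw [hcE, Nat.card_eq_fintype_card, QuaternionGroup.card] at h
        omega
      subst hm2
      exact ⟨eH.trans (eQ.prodCongr (MulEquiv.refl _))⟩
  · left
    have hodd : Odd p := hp.out.odd_of_ne_two hp2
    refine ⟨hodd, E', hg, hf, hex, hcE, fun x => ?_, ⟨eH⟩⟩
    have key : ∀ y : H, y ^ p = 1 := by
      by_contra hno
      push Not at hno
      obtain ⟨y₀, hy₀⟩ := hno
      let f : H →* H :=
        { toFun := fun x => x ^ p
          map_one' := one_pow p
          map_mul' := fun v w => by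
            have h := pow_mul_of_central_comm (x := w) (y := v) (c := ⁅w, v⁆)
              (by simp [commutatorElement_def, mul_assoc]) (hcomm2 w v).1 (hcomm2 w v).2 p
            obtain ⟨t, ht⟩ := hodd
            have hch : p.choose 2 = p * t := by
              rw [Nat.choose_two_right, ht, show 2 * t + 1 - 1 = 2 * t by omega,
                show (2 * t + 1) * (2 * t) = 2 * ((2 * t + 1) * t) by ring,
                Nat.mul_div_cancel_left _ (by norm_num)]
            rw [h, hch, pow_mul, hΦp _ (hcomm w v), one_pow, one_mul] }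
      have hfr : f.range = frattini H := by
        refine eq_of_le_of_card_ge (by rintro _ ⟨y, rfl⟩; exact hpow y) ?_
        rw [hΦ]
        have hne : f.range ≠ ⊥ := fun e => hy₀ (Subgroup.mem_bot.mp (e ▸ ⟨y₀, rfl⟩))
        obtain ⟨i, hi⟩ := IsPGroup.iff_card.mp (hP.to_subgroup f.range)
        rw [hi]
        exact Nat.le_self_pow (fun h0 => hne (card_eq_one.mp (by rw [hi, h0, pow_zero]))) p
      refine false_of_between hcard hr ⟨a, b, hab⟩ A hR (K := f.ker) (fun z hz => hZp z hz) ?_ fun α q hq => ?_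
      · have h := f.ker.card_mul_index
        rw [index_ker, hfr, hΦ, hcard, pow_succ p 3] at h
        exact Nat.eq_of_mul_eq_mul_right hp.out.pos h
      · show (α q) ^ p = 1
        rw [← map_pow, show q ^ p = 1 from hq, map_one]
    exact em.injective (Subtype.ext (by rw [map_pow, map_one, Subgroup.coe_pow, key, Subgroup.coe_one]))

end Cfsg.Lib.Fusion.Quartic
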